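import Mathlib
import Groth.Agent.LciH1Lib.Fibre
import Groth.Agent.NLLib.LCI
import Groth.Agent.S2069
import Groth.Agent.S12269

/-! Base change of `T¹` for flat local complete intersections with generically smooth fibres. -/

set_option autoImplicit false
set_option backward.isDefEq.respectTransparency false
set_option backward.isDefEq.respectTransparency.types false
set_option linter.style.haveILetI false

universe u

open TensorProduct

noncomputable section

namespace Groth.Agent.LciT1Lib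

theorem exists_smul_submodule_eq_zero {R : Type u} [CommRing R] {M : Type u} [AddCommGroup M] [Module R M]
    (N : Submodule R M) (hN : N.FG) (p : Ideal R) [p.IsPrime]
    (h : ∀ x ∈ N, ∃ s, s ∉ p ∧ s • x = 0) : ∃ s, s ∉ p ∧ ∀ x ∈ N, s • x = 0 := by
  classical
  obtain ⟨T, rfl⟩ := hN
  choose s hs hsx using fun x : {x // x ∈ T} => h x.1 (Submodule.subset_span x.2)
  refine ⟨∏ x, s x, fun hp => ?_, fun x hx => ?_⟩
  · obtain ⟨x, -, hx⟩ := (Ideal.IsPrime.prod_mem_iff (p := p)).mp hp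
    exact hs x hx
  · induction hx using Submodule.span_induction with
    | mem y hy =>
      rw [← Finset.prod_erase_mul _ _ (Finset.mem_univ (⟨y, hy⟩ : {x // x ∈ T})), mul_smul, hsx, smul_zero]
    | zero => rw [smul_zero]
    | add a b _ _ ha hb => rw [smul_add, ha, hb, add_zero]
    | smul r a _ ha => rw [smul_comm, ha, smul_zero]

variable {P : Type u} [CommRing P]

theorem exists_left_inverse [IsNoetherianRing P] {N L Ω : Type u} [AddCommGroup N] [Module P N] [Module.Finite P N]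
    [AddCommGroup L] [Module P L] [Module.Finite P L] [Module.Free P L] [AddCommGroup Ω] [Module P Ω]
    (d : N →ₗ[P] L) (t : L →ₗ[P] Ω) (ht : Function.Surjective t) (hex : Function.Exact d t)
    (𝔓 : PrimeSpectrum P) (hker : ∀ x ∈ LinearMap.ker d, ∃ s, s ∉ 𝔓.asIdeal ∧ s • x = 0)
    (hfree : 𝔓 ∈ Module.freeLocus P Ω) :
    ∃ s, s ∉ 𝔓.asIdeal ∧ ∃ l : L →ₗ[P] N, ∀ x, l (d x) = s • x := by
  classical
  haveI : Module.Finite P Ω := Module.Finite.of_surjective t ht
  haveI : Module.FinitePresentation P Ω := Module.finitePresentation_of_finite P Ω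
  let S := 𝔓.asIdeal.primeCompl
  haveI : Module.Free (Localization S) (LocalizedModule S Ω) := Module.mem_freeLocus.mp hfree
  let tS := LocalizedModule.map S t
  have htS : Function.Surjective tS := fun y => by
    obtain ⟨⟨m, s⟩, rfl⟩ := IsLocalizedModule.mk'_surjective S (LocalizedModule.mkLinearMap S Ω) y
    obtain ⟨l, rfl⟩ := ht m
    refine ⟨LocalizedModule.mk l s, ?_⟩
    simp only [tS, Function.uncurry_apply_pair, ← IsLocalizedModule.mk_eq_mk', LocalizedModule.map_mk]
  obtain ⟨σ, hσ⟩ := Module.projective_lifting_property tS LinearMap.id htS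
  obtain ⟨σ₀, s, hs⟩ := Module.FinitePresentation.exists_lift_of_isLocalizedModule S
    (LocalizedModule.mkLinearMap S L) (σ.restrictScalars P ∘ₗ LocalizedModule.mkLinearMap S Ω)
  let δ : Ω →ₗ[P] Ω := t ∘ₗ σ₀ - (s : P) • LinearMap.id
  have hδ : ∀ x ∈ LinearMap.range δ, ∃ a, a ∉ 𝔓.asIdeal ∧ a • x = 0 := by
    rintro _ ⟨x, rfl⟩
    have h1 : LocalizedModule.mk (σ₀ x) 1 = (s : P) • σ (LocalizedModule.mk x 1) :=
      LinearMap.congr_fun hs x
    have h2 := congrArg tS h1
    rw [← algebraMap_smul (Localization S) (s : P), map_smul] at h2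
    have h3 : tS (σ (LocalizedModule.mk x 1)) = LocalizedModule.mk x 1 := LinearMap.congr_fun hσ _
    rw [h3, algebraMap_smul] at h2
    have h4 : LocalizedModule.mkLinearMap S Ω (t (σ₀ x)) = LocalizedModule.mkLinearMap S Ω ((s : P) • x) := by
      rw [map_smul]
      exact (LocalizedModule.map_mk (S := S) t (σ₀ x) 1).symm.trans h2
    obtain ⟨c, hc⟩ := IsLocalizedModule.exists_of_eq (S := S) h4
    refine ⟨c, c.2, ?_⟩
    show (c : P) • (t (σ₀ x) - (s : P) • x) = 0
    rw [smul_sub, sub_eq_zero]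
    exact hc
  obtain ⟨a, ha, haδ⟩ := exists_smul_submodule_eq_zero (LinearMap.range δ) (IsNoetherian.noetherian _) 𝔓.asIdeal hδ
  obtain ⟨b, hb, hbk⟩ := exists_smul_submodule_eq_zero (LinearMap.ker d) (IsNoetherian.noetherian _) 𝔓.asIdeal hker
  let e : L →ₗ[P] L := (a * s) • LinearMap.id - (a • σ₀) ∘ₗ t
  have he : ∀ x, e x ∈ LinearMap.range d := fun x => by
    refine (hex _).mp ?_
    have h5 := haδ _ ⟨t x, rfl⟩
    simp only [δ, LinearMap.sub_apply, LinearMap.comp_apply, LinearMap.smul_apply, LinearMap.id_apply,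
      smul_sub, smul_smul, sub_eq_zero] at h5
    simp only [e, LinearMap.sub_apply, LinearMap.comp_apply, LinearMap.smul_apply, LinearMap.id_apply,
      map_sub, map_smul, h5, sub_self]
  obtain ⟨g, hg⟩ := Module.projective_lifting_property d.rangeRestrict (e.codRestrict _ he) d.surjective_rangeRestrict
  refine ⟨b * (a * s), fun h => ((𝔓.isPrime.mem_or_mem h).elim hb fun h => (𝔓.isPrime.mem_or_mem h).elim ha s.2),
    b • g, fun x => ?_⟩
  have h6 : d (g (d x) - (a * (s : P)) • x) = 0 := by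
    have h7 : d (g (d x)) = e (d x) := congrArg Subtype.val (LinearMap.congr_fun hg (d x))
    rw [map_sub, map_smul, h7]
    simp [e, hex.apply_apply_eq_zero]
  have h8 := hbk _ h6
  rw [smul_sub, sub_eq_zero, smul_smul] at h8
  exact h8

/-- the functional of the base change -/
def dualMap (I : Ideal P) (N : Type u) [AddCommGroup N] [Module P N] :
    Module.Dual P N →ₗ[P] Module.Dual (P ⧸ I) ((P ⧸ I) ⊗[P] N) :=
  Module.Dual.baseChange (P ⧸ I)

variable {N L : Type u} [AddCommGroup N] [Module P N] [AddCommGroup L] [Module P L]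

theorem mem_smul_top_of_values [Module.Finite P N] [Module.Projective P N] (I : Ideal P) (φ : N →ₗ[P] P)
    (h : ∀ x, φ x ∈ I) : φ ∈ I • (⊤ : Submodule P (N →ₗ[P] P)) := by
  classical
  obtain ⟨m, π, hπ⟩ := Module.Finite.exists_fin' P N
  obtain ⟨ι, hι⟩ := Module.projective_lifting_property π LinearMap.id hπ
  have hsum : φ = ∑ i, φ (π (Pi.single i 1)) • (LinearMap.proj i ∘ₗ ι) := by
    refine LinearMap.ext fun x => ?_
    conv_lhs => rw [show x = π (ι x) from (LinearMap.congr_fun hι x).symm, pi_eq_sum_univ' (ι x)]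
    simp only [map_sum, map_smul, LinearMap.sum_apply, LinearMap.smul_apply, LinearMap.comp_apply, LinearMap.proj_apply,
      smul_eq_mul, mul_comm]
  rw [hsum]
  exact Submodule.sum_mem _ fun i _ => Submodule.smul_mem_smul (h _) Submodule.mem_top

theorem nonempty_coker_baseChange [Module.Finite P N] [Module.Projective P N] [Module.Projective P L]
    (d : N →ₗ[P] L) (I : Ideal P) :
    Nonempty ((P ⧸ I) ⊗[P] ((N →ₗ[P] P) ⧸ LinearMap.range (LinearMap.lcomp P P d)) ≃ₗ[P ⧸ I]
      (((P ⧸ I) ⊗[P] N →ₗ[P ⧸ I] P ⧸ I) ⧸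
        LinearMap.range (LinearMap.lcomp (P ⧸ I) (P ⧸ I) (d.baseChange (P ⧸ I))))) := by
  let P' := P ⧸ I
  let R' := LinearMap.range (LinearMap.lcomp P' P' (d.baseChange P'))
  let g₀ : (N →ₗ[P] P) →ₗ[P] ((P' ⊗[P] N →ₗ[P'] P') ⧸ R') := R'.mkQ.restrictScalars P ∘ₗ dualMap I N
  have hd : ∀ (φ : N →ₗ[P] P) x, dualMap I N φ (1 ⊗ₜ x) = Ideal.Quotient.mk I (φ x) := fun φ x => by
    rw [dualMap, Module.Dual.baseChange_apply_tmul, Algebra.smul_def, mul_one]
    rfl
  have hg : LinearMap.range (LinearMap.lcomp P P d) ≤ LinearMap.ker g₀ := by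
    rintro _ ⟨ψ, rfl⟩
    refine (Submodule.Quotient.mk_eq_zero _).mpr ⟨dualMap I L ψ, ?_⟩
    refine LinearMap.restrictScalars_injective P (TensorProduct.ext' fun q x => ?_)
    obtain ⟨q, rfl⟩ := Ideal.Quotient.mk_surjective q
    show dualMap I L ψ (Ideal.Quotient.mk I q ⊗ₜ d x) = dualMap I N (ψ ∘ₗ d) (Ideal.Quotient.mk I q ⊗ₜ x)
    simp [dualMap, Module.Dual.baseChange_apply_tmul]
  let g := (LinearMap.range (LinearMap.lcomp P P d)).liftQ g₀ hg
  let G := g.liftBaseChange P'
  have hG : ∀ φ : N →ₗ[P] P, G (1 ⊗ₜ Submodule.Quotient.mk φ) = Submodule.Quotient.mk (dualMap I N φ) := fun φ => by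
    rw [LinearMap.liftBaseChange_tmul, one_smul]; rfl
  refine ⟨LinearEquiv.ofBijective G ⟨?_, ?_⟩⟩
  · rw [injective_iff_map_eq_zero]
    intro z hz
    obtain ⟨v, rfl⟩ := TensorProduct.mk_surjective P _ P' Ideal.Quotient.mk_surjective z
    obtain ⟨φ, rfl⟩ := Submodule.Quotient.mk_surjective _ v
    rw [TensorProduct.mk_apply, hG, Submodule.Quotient.mk_eq_zero] at hz
    obtain ⟨ψ', hψ'⟩ := hz
    let ψ₁ : L →ₗ[P] P' := ψ'.restrictScalars P ∘ₗ TensorProduct.mk P P' L 1
    obtain ⟨ψ, hψ⟩ := Module.projective_lifting_property (Algebra.linearMap P P') ψ₁ Ideal.Quotient.mk_surjective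
    have hval : ∀ x, (φ - ψ ∘ₗ d) x ∈ I := fun x => by
      rw [← Ideal.Quotient.eq_zero_iff_mem, LinearMap.sub_apply, map_sub, sub_eq_zero]
      refine ((hd φ x).symm.trans ?_).trans (LinearMap.congr_fun hψ (d x)).symm
      rw [← hψ']
      rfl
    rw [TensorProduct.mk_apply, show Submodule.Quotient.mk φ =
      (Submodule.Quotient.mk (φ - ψ ∘ₗ d) : _ ⧸ LinearMap.range (LinearMap.lcomp P P d)) from
      (Submodule.Quotient.eq _).mpr ⟨ψ, (sub_sub_cancel φ (ψ ∘ₗ d)).symm⟩]
    refine Submodule.smul_induction_on (mem_smul_top_of_values I _ hval) (fun a ha η _ => ?_) fun a b ha hb => ?_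
    · rw [Submodule.Quotient.mk_smul, TensorProduct.tmul_smul, TensorProduct.smul_tmul', Algebra.smul_def, mul_one,
        Ideal.Quotient.algebraMap_eq, Ideal.Quotient.eq_zero_iff_mem.mpr ha, TensorProduct.zero_tmul]
    · rw [Submodule.Quotient.mk_add, TensorProduct.tmul_add, ha, hb, add_zero]
  · intro v
    obtain ⟨φ', rfl⟩ := Submodule.Quotient.mk_surjective _ v
    let φ₁ : N →ₗ[P] P' := φ'.restrictScalars P ∘ₗ TensorProduct.mk P P' N 1
    obtain ⟨φ, hφ⟩ := Module.projective_lifting_property (Algebra.linearMap P P') φ₁ Ideal.Quotient.mk_surjective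
    refine ⟨_, (hG φ).trans (congrArg _ (LinearMap.restrictScalars_injective P (TensorProduct.ext' fun q x => ?_)))⟩
    obtain ⟨q, rfl⟩ := Ideal.Quotient.mk_surjective q
    have h1 : (Ideal.Quotient.mk I q) ⊗ₜ[P] x = Ideal.Quotient.mk I q • ((1 : P') ⊗ₜ[P] x) := by
      rw [TensorProduct.smul_tmul', smul_eq_mul, mul_one]
    show dualMap I N φ _ = φ' _
    rw [h1, map_smul, map_smul, hd]
    exact congrArg (Ideal.Quotient.mk I q • ·) (LinearMap.congr_fun hφ x)

section Main

variable {A : Type u} [CommRing A] [IsNoetherianRing A] [Algebra A P] [Module.Flat A P]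

theorem mem_smoothLocus_of_ass
    (hlci : LCI.IsLCI A P)
    (hgs : ∀ 𝔓 : PrimeSpectrum P,
      (∀ 𝔔 : PrimeSpectrum P, 𝔔 ≤ 𝔓 →
          𝔔.asIdeal.comap (algebraMap A P) = 𝔓.asIdeal.comap (algebraMap A P) → 𝔔 = 𝔓) →
        𝔓 ∈ Algebra.smoothLocus A P)
    (J : Ideal A) (𝔓 : Ideal P) [𝔓.IsPrime]
    (h : 𝔓 ∈ associatedPrimes P (P ⧸ J.map (algebraMap A P))) :
    (⟨𝔓, inferInstance⟩ : PrimeSpectrum P) ∈ Algebra.smoothLocus A P := by
  obtain ⟨hft, n, f, hf, hI⟩ := hlci
  haveI := hft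
  haveI : IsNoetherianRing P := Algebra.FiniteType.isNoetherianRing A P
  let E : P ⊗[A] (A ⧸ J) ≃ₗ[P] P ⧸ J.map (algebraMap A P) :=
    (Algebra.TensorProduct.quotIdealMapEquivTensorQuot P J).symm.toLinearEquiv
  rw [← LinearEquiv.AssociatedPrimes.eq E, S2069.result (R := A) (S := P) (M := A ⧸ J) (N := P)] at h
  simp only [Set.mem_iUnion] at h
  obtain ⟨p, hp, h⟩ := h
  haveI : p.IsPrime := hp.1
  rw [LinearEquiv.AssociatedPrimes.eq (Submodule.quotEquivOfEq
    (p.map (algebraMap A P) • (⊤ : Submodule P P)) (p.map (algebraMap A P))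
    (by rw [smul_eq_mul, Ideal.mul_top]))] at h
  have hcomap := LciH1Lib.comap_eq_of_ass p 𝔓 h
  exact hgs _ fun 𝔔 hle heq => PrimeSpectrum.ext
    (LciH1Lib.eq_of_ass_fibre f hf hI 𝔓 (by rw [hcomap]; exact h) 𝔔.asIdeal hle heq)

theorem eq_zero_of_smul [IsNoetherianRing P] {I : Ideal P} {N' : Type u} [AddCommGroup N'] [Module (P ⧸ I) N']
    [Module P N'] [IsScalarTower P (P ⧸ I) N'] [Module.Projective (P ⧸ I) N'] (x : N')
    (h : ∀ 𝔓 ∈ associatedPrimes P (P ⧸ I), ∃ s, s ∉ 𝔓 ∧ s • x = 0) : x = 0 := by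
  by_contra hx
  obtain ⟨φ, hφ⟩ : ∃ φ : Module.Dual (P ⧸ I) N', φ x ≠ 0 := by
    by_contra hall
    push Not at hall
    exact hx ((Module.forall_dual_apply_eq_zero_iff (P ⧸ I) x).mp hall)
  obtain ⟨𝔓, h𝔓, hle⟩ := exists_le_isAssociatedPrime_of_isNoetherianRing P (φ x) hφ
  obtain ⟨s, hs, hsx⟩ := h 𝔓 h𝔓
  refine hs (hle (Submodule.mem_colon_singleton.mpr ?_))
  rw [Submodule.mem_bot, ← φ.map_smul_of_tower, hsx, map_zero]

theorem nonempty_iso (hlci : LCI.IsLCI A P)
    (hgs : ∀ 𝔓 : PrimeSpectrum P,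
      (∀ 𝔔 : PrimeSpectrum P, 𝔔 ≤ 𝔓 →
          𝔔.asIdeal.comap (algebraMap A P) = 𝔓.asIdeal.comap (algebraMap A P) → 𝔔 = 𝔓) →
        𝔓 ∈ Algebra.smoothLocus A P)
    (J : Ideal A) :
    Nonempty
      ((P ⧸ J.map (algebraMap A P)) ⊗[P]
          CategoryTheory.Abelian.Ext.{u} (ModuleCat.of P (KaehlerDifferential A P)) (ModuleCat.of P P) 1 ≃ₗ[P ⧸ J.map (algebraMap A P)]
        CategoryTheory.Abelian.Ext.{u}
          (ModuleCat.of (P ⧸ J.map (algebraMap A P)) (KaehlerDifferential A (P ⧸ J.map (algebraMap A P))))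
          (ModuleCat.of (P ⧸ J.map (algebraMap A P)) (P ⧸ J.map (algebraMap A P))) 1) := by
  obtain ⟨hft, n, f, hf, hI⟩ := id hlci
  haveI := hft
  haveI : IsNoetherianRing P := Algebra.FiniteType.isNoetherianRing A P
  let G := NLLib.gens f hf
  let E := G.toExtension
  obtain ⟨hNf, hNp⟩ := NLLib.finite_projective_cotangent E (NLLib.ker_gens f hf ▸ hI)
  haveI : Module.Free P E.CotangentSpace := Module.Free.of_basis G.cotangentSpaceBasis
  haveI : Module.Finite P E.CotangentSpace := Module.Finite.of_basis G.cotangentSpaceBasis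
  let d := E.cotangentComplex
  let t := E.toKaehler
  have ht : Function.Surjective t := Algebra.Extension.toKaehler_surjective
  have hex : Function.Exact d t := Algebra.Extension.exact_cotangentComplex_toKaehler
  let I := J.map (algebraMap A P)
  let P' := P ⧸ I
  have hle₁ : ∀ x, t (d x) = 0 := fun x => hex.apply_apply_eq_zero x
  have hinv : ∀ J' : Ideal A, ∀ 𝔓 ∈ associatedPrimes P (P ⧸ J'.map (algebraMap A P)),
      ∃ s, s ∉ 𝔓 ∧ ∃ l : E.CotangentSpace →ₗ[P] E.Cotangent, ∀ x, l (d x) = s • x := by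
    intro J' 𝔓 h𝔓
    haveI : 𝔓.IsPrime := h𝔓.1
    have hsm := mem_smoothLocus_of_ass hlci hgs J' 𝔓 h𝔓
    rw [Algebra.smoothLocus_eq_compl_support_inter] at hsm
    refine exists_left_inverse d t ht hex ⟨𝔓, inferInstance⟩ (fun x hx => ?_) hsm.2
    obtain ⟨a, ha, hax⟩ := Module.notMem_support_iff'.1 hsm.1 (G.equivH1Cotangent (⟨x, hx⟩ : E.H1Cotangent))
    refine ⟨a, ha, ?_⟩
    rw [← map_smul, LinearEquiv.map_eq_zero_iff] at hax
    have := congrArg Algebra.Extension.h1Cotangentι hax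
    rwa [map_smul, map_zero] at this
  have hd0 : LinearMap.ker d = ⊥ := by
    refine eq_bot_iff.mpr fun x hx => ?_
    refine (Submodule.mem_bot P).mpr ?_
    refine Module.forall_dual_apply_eq_zero_iff P x |>.mp fun φ => ?_
    by_contra hφ
    obtain ⟨𝔓, h𝔓, hle⟩ := exists_le_isAssociatedPrime_of_isNoetherianRing P (φ x) hφ
    obtain ⟨s, hs, l, hl⟩ := hinv ⊥ 𝔓 (by
      rw [LinearEquiv.AssociatedPrimes.eq ((Submodule.quotEquivOfEq _ _ (Ideal.map_bot (f := algebraMap A P))).trans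
        (Submodule.quotEquivOfEqBot _ rfl))]
      exact h𝔓)
    refine hs (hle (Submodule.mem_colon_singleton.mpr ?_))
    rw [Submodule.mem_bot, ← map_smul, ← hl, LinearMap.mem_ker.mp hx, map_zero, map_zero]
  obtain ⟨e₁⟩ := S12269.nonempty_equiv_of_exact d t ht hle₁ (fun z hz => (hex z).mp hz)
    (fun φ => by rw [hd0]; exact bot_le)
  let d' := d.baseChange P'
  haveI : Module.Projective P' (P' ⊗[P] E.CotangentSpace) := inferInstance
  let t' : P' ⊗[P] E.CotangentSpace →ₗ[P'] Ω[P'⁄A] := KaehlerDifferential.mapBaseChange A P P' ∘ₗ t.baseChange P'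
  have hmk : Function.Surjective (algebraMap P P') := Ideal.Quotient.mk_surjective
  have hinj : Function.Injective (KaehlerDifferential.mapBaseChange A P P') := by
    rw [injective_iff_map_eq_zero]
    intro z hz
    obtain ⟨w, rfl⟩ := (KaehlerDifferential.exact_kerCotangentToTensor_mapBaseChange A P P' hmk z).mp hz
    obtain ⟨⟨x, hx⟩, rfl⟩ := Ideal.toCotangent_surjective _ w
    rw [KaehlerDifferential.kerCotangentToTensor_toCotangent]
    have hx' : x ∈ I := by
      rw [← Ideal.Quotient.eq_zero_iff_mem]; exact hx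
    show (1 : P') ⊗ₜ[P] KaehlerDifferential.D A P x = 0
    clear hx hz
    induction hx' using Submodule.span_induction with
    | mem y hy =>
      obtain ⟨a, -, rfl⟩ := hy
      rw [Derivation.map_algebraMap, TensorProduct.tmul_zero]
    | zero => rw [map_zero, TensorProduct.tmul_zero]
    | add a b _ _ ha hb => rw [map_add, TensorProduct.tmul_add, ha, hb, add_zero]
    | smul q y hy hyz =>
      rw [smul_eq_mul, Derivation.leibniz, TensorProduct.tmul_add, TensorProduct.tmul_smul, hyz, smul_zero, zero_add,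
        TensorProduct.tmul_smul, TensorProduct.smul_tmul', Algebra.smul_def, mul_one, Ideal.Quotient.algebraMap_eq,
        Ideal.Quotient.eq_zero_iff_mem.mpr (show y ∈ I from hy), TensorProduct.zero_tmul]
  have ht' : Function.Surjective t' :=
    (KaehlerDifferential.mapBaseChange_surjective A P P' hmk).comp (LinearMap.lTensor_surjective P' ht)
  have hex' : Function.Exact (d.baseChange P') (t.baseChange P') := lTensor_exact P' hex ht
  have hle₁' : ∀ z, t' (d' z) = 0 := fun z => by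
    show KaehlerDifferential.mapBaseChange A P P' (t.baseChange P' (d' z)) = 0
    rw [hex'.apply_apply_eq_zero, map_zero]
  have hle₂' : LinearMap.ker t' ≤ LinearMap.range d' := fun z hz =>
    (hex' z).mp (hinj (by rw [map_zero]; exact hz))
  have hd'0 : LinearMap.ker d' = ⊥ := by
    refine eq_bot_iff.mpr fun x hx => (Submodule.mem_bot P').mpr (eq_zero_of_smul (I := I) x fun 𝔓 h𝔓 => ?_)
    obtain ⟨s, hs, l, hl⟩ := hinv J 𝔓 h𝔓
    refine ⟨s, hs, ?_⟩
    have hcomp : ∀ y, l.baseChange P' (d' y) = s • y := fun y => by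
      induction y using TensorProduct.induction_on with
      | zero => simp
      | tmul q m => simp [d', hl]
      | add a b ha hb => simp [ha, hb]
    rw [← hcomp, LinearMap.mem_ker.mp hx, map_zero]
  obtain ⟨e₂⟩ := S12269.nonempty_equiv_of_exact d' t' ht' hle₁' hle₂' (fun φ => by rw [hd'0]; exact bot_le)
  obtain ⟨b⟩ := nonempty_coker_baseChange d I
  exact ⟨((TensorProduct.AlgebraTensorModule.congr (LinearEquiv.refl P' P') e₁.symm).trans b).trans e₂⟩

end Main

end Groth.Agent.LciT1Lib
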